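import Cfsg.Agent.H670.PSolv
import Cfsg.Agent.H33.IM
import Cfsg.Agent.H665.DefZero
import Cfsg.Agent.Blocks.Deflate
import Cfsg.Agent.S0165
set_option linter.all false

/-!
# Constituents of the permutation character on a Sylow subgroup

* `Fix P χ` : the sum of `χ` over the subgroup `P` does not vanish (for a character `χ`: the trivial character
  is a constituent of the restriction of `χ` to `P`);
* `IMC p G` : some irreducible character of `G` of degree divisible by `p` has the trivial character of a Sylow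
  `p`-subgroup as a constituent;
* `IMC.of_surjective`, `IMC.of_normal`, `main` : the reduction of the theorem of Malle and Navarro to simple
  groups.
-/

set_option autoImplicit false

open Cfsg
open scoped ComplexConjugate

namespace Cfsg.Agent.H625.SylConst

open Cfsg.Agent.Characters.Core Cfsg.Agent.OddOrderCharacters.IndRes
  Cfsg.Agent.OddOrderCharacters.PF9.CliffGen Cfsg.Agent.Blocks.Knorr
  Cfsg.Agent.OddOrderCharacters.NormalInduced

universe u v

/-- The sum of `χ` over `P` does not vanish. -/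
def Fix {G : Type u} [Group G] (P : Subgroup G) (χ : G → ℂ) : Prop := ∑ᶠ z : P, χ (z : G) ≠ 0

theorem fix_iff {G : Type u} [Group G] (P : Subgroup G) [Fintype P] (χ : G → ℂ) :
    Fix P χ ↔ ∑ z : P, χ (z : G) ≠ 0 := by
  unfold Fix
  rw [finsum_eq_sum_of_fintype]

theorem fix_iff_inner {G : Type u} [Group G] (P : Subgroup G) [Fintype P] (χ : G → ℂ) :
    Fix P χ ↔ classInner (res P χ) 1 ≠ 0 := by
  rw [fix_iff]
  have h1 : classInner (res P χ) (1 : P → ℂ) = (Nat.card P : ℂ)⁻¹ * ∑ z : P, χ (z : G) := by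
    rw [classInner_def]
    simp [res_apply]
  rw [h1, mul_ne_zero_iff]
  refine ⟨fun h => ⟨inv_ne_zero card_ne_zero_complex, h⟩, fun h => h.2⟩

/-- The sum of a character over a subgroup is a natural number. -/
theorem exists_nat {G : Type u} [Group G] (P : Subgroup G) [Fintype P] {χ : G → ℂ}
    (hχ : IsCharacter G χ) : ∃ m : ℕ, ∑ z : P, χ (z : G) = m := by
  have h1 : IsCharacter P (res P χ) := isCharacter_res P hχ
  obtain ⟨m, hm⟩ := classInner_isNat (G := P) h1 isCharacter_one
  refine ⟨Nat.card P * m, ?_⟩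
  rw [Nat.cast_mul, ← hm, classInner_def, ← mul_assoc, mul_inv_cancel₀ card_ne_zero_complex, one_mul]
  simp [res_apply]

theorem fix_conj {G : Type u} [Group G] [Finite G] (P : Subgroup G) {χ : G → ℂ} (hχ : IsClassFunction G χ)
    (g : G) (h : Fix P χ) : Fix (P.map (MulAut.conj g).toMonoidHom) χ := by
  have := Fintype.ofFinite P
  have := Fintype.ofFinite (P.map (MulAut.conj g).toMonoidHom)
  rw [fix_iff] at h ⊢
  have e : P ≃ P.map (MulAut.conj g).toMonoidHom :=
    (P.equivMapOfInjective _ (MulAut.conj g).injective).toEquiv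
  have h1 : ∑ z : P.map (MulAut.conj g).toMonoidHom, χ (z : G) = ∑ z : P, χ (z : G) := by
    symm
    apply Fintype.sum_equiv (P.equivMapOfInjective _ (MulAut.conj g).injective).toEquiv
    intro z
    have h2 : (((P.equivMapOfInjective _ (MulAut.conj g).injective).toEquiv z :
      P.map (MulAut.conj g).toMonoidHom) : G) = g * z * g⁻¹ := rfl
    rw [h2]
    exact (hχ z g).symm
  rwa [h1]

/-- Some irreducible character of degree divisible by `p` is a constituent of the permutation character on the
cosets of a Sylow `p`-subgroup. -/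
def IMC (p : ℕ) (G : Type u) [Group G] : Prop :=
  ∃ (χ : IrrCharacter G) (P : Sylow p G), p ∣ charDegree (χ : G → ℂ) ∧ Fix (P : Subgroup G) (χ : G → ℂ)

/-- Independence of the Sylow subgroup. -/
theorem IMC.fix {p : ℕ} [hp : Fact p.Prime] {G : Type u} [Group G] [Finite G] (h : IMC p G) (P : Sylow p G) :
    ∃ χ : IrrCharacter G, p ∣ charDegree (χ : G → ℂ) ∧ Fix (P : Subgroup G) (χ : G → ℂ) := by
  obtain ⟨χ, Q, h1, h2⟩ := h
  refine ⟨χ, h1, ?_⟩
  obtain ⟨g, rfl⟩ := MulAction.exists_smul_eq G Q P
  exact fix_conj (Q : Subgroup G) (isIrr_isClassFunction χ.2) g h2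

/-- Surjective homomorphisms. -/
theorem fix_comp {G : Type u} [Group G] [Finite G] {H : Type v} [Group H] (f : G →* H) (P : Subgroup G)
    {χ : H → ℂ} (h : Fix (P.map f) χ) : Fix P (χ ∘ f) := by
  classical
  have := Fintype.ofFinite P
  have : Finite (P.map f) := Finite.of_surjective (fun x : P => (⟨f x, Subgroup.mem_map_of_mem f x.2⟩ : P.map f))
    (by rintro ⟨_, x, hx, rfl⟩; exact ⟨⟨x, hx⟩, rfl⟩)
  have := Fintype.ofFinite (P.map f)
  rw [fix_iff] at h ⊢
  let g : P →* P.map f := f.subgroupMap P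
  have hg : Function.Surjective g := f.subgroupMap_surjective P
  have h1 : ∑ z : P, (χ ∘ f) (z : G) = (Nat.card g.ker : ℂ) * ∑ w : P.map f, χ (w : H) := by
    have h2 : ∀ w : P.map f, (Finset.univ.filter fun z : P => g z = w).card = Nat.card g.ker := by
      intro w
      obtain ⟨z₀, hz₀⟩ := hg w
      rw [← Fintype.card_subtype, ← Nat.card_eq_fintype_card]
      symm
      refine Nat.card_congr ⟨fun k => ⟨z₀ * k, by rw [map_mul, k.2, mul_one, hz₀]⟩,
        fun z => ⟨z₀⁻¹ * z, by rw [MonoidHom.mem_ker, map_mul, map_inv, z.2, hz₀, inv_mul_cancel]⟩, ?_, ?_⟩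
      · intro k; simp
      · intro z; simp
    have h3 : ∑ z : P, (χ ∘ f) (z : G) = ∑ w : P.map f, ∑ z ∈ Finset.univ.filter (fun z : P => g z = w),
        (χ ∘ f) (z : G) := by
      rw [Finset.sum_fiberwise]
    rw [h3, Finset.mul_sum]
    refine Finset.sum_congr rfl fun w _ => ?_
    rw [← h2 w, ← nsmul_eq_mul, ← Finset.sum_const]
    refine Finset.sum_congr rfl fun z hz => ?_
    have h4 : g z = w := (Finset.mem_filter.1 hz).2
    rw [← h4]
    rfl
  rw [h1]
  exact mul_ne_zero (by exact_mod_cast Nat.card_pos.ne') h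

theorem IMC.of_surjective {p : ℕ} [Fact p.Prime] {G : Type u} [Group G] [Finite G] {H : Type v} [Group H]
    (f : G →* H) (hf : Function.Surjective f) (h : IMC p H) : IMC p G := by
  have : Finite H := Finite.of_surjective f hf
  obtain ⟨P⟩ : Nonempty (Sylow p G) := inferInstance
  obtain ⟨χ, h1, h2⟩ := h.fix (P.mapSurjective hf)
  refine ⟨⟨(χ : H → ℂ) ∘ f, isIrr_comp f hf χ.2⟩, P, ?_, fix_comp f _ h2⟩
  have h2 : charDegree ((χ : H → ℂ) ∘ f) = charDegree (χ : H → ℂ) := by
    unfold charDegree
    rw [Function.comp_apply, map_one]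
  show p ∣ charDegree ((χ : H → ℂ) ∘ f)
  rwa [h2]

theorem IMC.of_equiv {p : ℕ} [hp : Fact p.Prime] {G : Type u} [Group G] [Finite G] {H : Type v} [Group H]
    (e : G ≃* H) (h : IMC p H) : IMC p G :=
  h.of_surjective e.toMonoidHom e.surjective

/-- A character of the normal subgroup `N` with a `P ⊓ N`-fixed vector lies under a character with a `P`-fixed
vector. -/
theorem exists_over {G : Type u} [Group G] [Finite G] (N : Subgroup G) [hN : N.Normal] [Fintype N] (P : Subgroup G)
    {θ : N → ℂ} (hθ : IsIrrCharacter N θ) (h : Fix (P.subgroupOf N) θ) :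
    ∃ χ : IrrCharacter G, classInner (res N (χ : G → ℂ)) θ ≠ 0 ∧ Fix P (χ : G → ℂ) := by
  classical
  have : Fintype G := Fintype.ofFinite G
  have := Fintype.ofFinite P
  have : Finite (IrrCharacter G) := finite_irr
  have : Fintype (IrrCharacter G) := Fintype.ofFinite _
  have hind : IsCharacter G (indFun N θ) := isCharacter_indFun N (isIrr_isCharacter hθ)
  -- the sum over `P`
  have hsum : ∑ z : P, indFun N θ (z : G) ≠ 0 := by
    have h1 : ∑ z : P, indFun N θ (z : G) =
        (Nat.card N : ℂ)⁻¹ * ∑ x : G, ∑ z : P, extendByZero N θ (x⁻¹ * z * x) := by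
      unfold indFun
      rw [← Finset.mul_sum, Finset.sum_comm]
    rw [h1]
    apply mul_ne_zero (inv_ne_zero card_ne_zero_complex)
    have := Fintype.ofFinite (P.subgroupOf N)
    -- each inner sum is a natural number
    have h2 : ∀ x : G, ∑ z : P, extendByZero N θ (x⁻¹ * z * x) =
        ∑ z : P.subgroupOf N, conjFn N θ x⁻¹ (z : N) := by
      intro x
      have h3 : ∀ z : P, (z : G) ∉ N → extendByZero N θ (x⁻¹ * z * x) = 0 := by
        intro z hz
        unfold extendByZero
        apply Function.extend_apply'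
        rintro ⟨y, hy⟩
        apply hz
        have h4 := hN.conj_mem (x⁻¹ * z * x) (hy ▸ y.2) x
        have h5 : x * (x⁻¹ * z * x) * x⁻¹ = z := by group
        rwa [h5] at h4
      rw [← Finset.sum_filter_add_sum_filter_not Finset.univ (fun z : P => (z : G) ∈ N)]
      rw [Finset.sum_eq_zero (s := Finset.univ.filter fun z : P => (z : G) ∉ N)
        (fun z hz => h3 z (Finset.mem_filter.1 hz).2), add_zero]
      symm
      refine Finset.sum_bij (fun z _ => (⟨((z : N) : G), Subgroup.mem_subgroupOf.1 z.2⟩ : P)) ?_ ?_ ?_ ?_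
      · intro z _
        exact Finset.mem_filter.2 ⟨Finset.mem_univ _, (z : N).2⟩
      · intro a _ b _ hab
        exact Subtype.ext (Subtype.ext (congrArg (fun t : P => (t : G)) hab))
      · intro z hz
        exact ⟨⟨⟨z, (Finset.mem_filter.1 hz).2⟩, Subgroup.mem_subgroupOf.2 z.2⟩, Finset.mem_univ _, rfl⟩
      · intro z _
        rw [conjFn_apply']
        have h5 : x⁻¹ * ((z : N) : G) * x = ((MulAut.conjNormal x⁻¹ (z : N) : N) : G) := by
          rw [MulAut.conjNormal_apply, inv_inv]
        show _ = extendByZero N θ (x⁻¹ * ((z : N) : G) * x)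
        rw [h5, ext_coe]
    have h3 : ∀ x : G, ∃ m : ℕ, ∑ z : P, extendByZero N θ (x⁻¹ * z * x) = m := by
      intro x
      rw [h2 x]
      exact exists_nat (P.subgroupOf N) (isIrr_isCharacter ((isIrr_conjFn_iff N x⁻¹).2 hθ))
    choose m hm using h3
    simp only [hm]
    rw [← Nat.cast_sum, Nat.cast_ne_zero]
    have h4 : m 1 ≠ 0 := by
      intro h0
      have h5 := hm 1
      rw [h0, h2, Nat.cast_zero] at h5
      apply (fix_iff _ _).1 h
      rw [← h5]
      refine Finset.sum_congr rfl fun z _ => ?_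
      rw [conjFn_apply']
      congr 1
      apply Subtype.ext
      rw [MulAut.conjNormal_apply]
      simp
    intro h0
    exact h4 (Finset.sum_eq_zero_iff.1 h0 1 (Finset.mem_univ _))
  obtain ⟨m, hm⟩ := isCharacter_iff.1 hind
  have h2 : ∑ z : P, indFun N θ (z : G) = ∑ χ : IrrCharacter G, (m χ : ℂ) * ∑ z : P, (χ : G → ℂ) (z : G) := by
    rw [hm]
    simp only [Finset.sum_apply, Finset.mul_sum]
    rw [Finset.sum_comm]
    refine Finset.sum_congr rfl fun χ _ => Finset.sum_congr rfl fun z _ => ?_
    rw [Pi.smul_apply, nsmul_eq_mul]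
  rw [h2] at hsum
  obtain ⟨χ, -, hχ⟩ := Finset.exists_ne_zero_of_sum_ne_zero hsum
  rw [mul_ne_zero_iff] at hχ
  refine ⟨χ, ?_, (fix_iff _ _).2 hχ.2⟩
  rw [← classInner_res_symm N (isIrr_isCharacter hθ) (isIrr_isCharacter χ.2), hm, classInner_sum_nsmul_irr]
  exact hχ.1


theorem IMC.of_normal {p : ℕ} [Fact p.Prime] {G : Type u} [Group G] [Finite G] (N : Subgroup G) [N.Normal]
    (h : IMC p N) : IMC p G := by
  have := Fintype.ofFinite N
  obtain ⟨θ, R, h1, h2⟩ := h
  obtain ⟨P, hP⟩ := (R.isPGroup'.map N.subtype).exists_le_sylow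
  have hR : (P : Subgroup G).subgroupOf N = R := by
    apply R.3 (P.isPGroup'.comap_of_injective N.subtype N.subtype_injective)
    intro x hx
    exact Subgroup.mem_subgroupOf.2 (hP (Subgroup.mem_map_of_mem N.subtype hx))
  rw [← hR] at h2
  obtain ⟨χ, h3, h4⟩ := exists_over N (P : Subgroup G) θ.2 h2
  exact ⟨χ, P, h1.trans (H670.PSing.degree_dvd_of_over N θ.2 χ.2 h3), h4⟩

/-- Groups without such characters are `p`-solvable, given the result for simple groups. -/
theorem isPSolvable_of_core {p : ℕ} [hp : Fact p.Prime]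
    (hcore : ∀ (S : Type u) [Group S] [Finite S], IsSimpleGroup S → ¬ IsMulCommutative S → p ∣ Nat.card S → IMC p S)
    (n : ℕ) :
    ∀ (G : Type u) [Group G] [Finite G], Nat.card G ≤ n → ¬ IMC p G → IsPSolvable p G := by
  induction n with
  | zero =>
    intro G _ _ hn
    exact absurd hn (by have := Nat.card_pos (α := G); omega)
  | succ n ih =>
    intro G _ _ hn hG
    by_cases hc : IsMulCommutative G
    · have : Group.IsSolvable G := by
        apply Group.isSolvable_of_comm
        exact fun a b => hc.is_comm.comm a b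
      exact Lib.PSolvable.IsPSolvable_of_solvable p
    by_cases hs : IsSimpleGroup G
    · by_cases hd : p ∣ Nat.card G
      · exact absurd (hcore G hs hc hd) hG
      · exact PLocal.PSolvable.isPSolvable_of_coprime
          ((Nat.Prime.coprime_iff_not_dvd hp.out).2 hd).symm
    have hnt : Nontrivial G := by
      by_contra h
      rw [not_nontrivial_iff_subsingleton] at h
      exact hc ⟨⟨fun a b => Subsingleton.elim _ _⟩⟩
    obtain ⟨N, hN, hNb, hNt⟩ : ∃ N : Subgroup G, N.Normal ∧ N ≠ ⊥ ∧ N ≠ ⊤ := by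
      by_contra hcon
      push Not at hcon
      exact hs ⟨fun N hN => by
        by_cases h : N = ⊥
        · exact Or.inl h
        · exact Or.inr (hcon N hN h)⟩
    -- `N` is `p`-solvable
    have hNc : Nat.card N ≤ n := by
      have h1 : Nat.card N < Nat.card G := by
        refine lt_of_le_of_ne (Subgroup.card_le_card_group N) fun h => hNt ?_
        exact Subgroup.eq_top_of_card_eq N h
      omega
    have hNs := ih N hNc (fun h => hG (h.of_normal N))
    have hNbt : (⊥ : Subgroup N) < ⊤ := by
      rw [bot_lt_iff_ne_bot]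
      intro h
      apply hNb
      rw [Subgroup.eq_bot_iff_forall]
      intro x hx
      have h1 : (⟨x, hx⟩ : N) ∈ (⊤ : Subgroup N) := trivial
      rw [h, Subgroup.mem_bot] at h1
      exact congrArg Subtype.val h1
    obtain ⟨L, hL, hL1, -, hL2⟩ := Lib.PSolvable.sep_of_pSolvable p hNs ⊥ ⊤ inferInstance inferInstance
      hNbt
    rw [Subgroup.relIndex_bot_left] at hL2
    -- a characteristic `p`- or `p'`-subgroup of `N`
    obtain ⟨R, hR, hRb, hR2⟩ : ∃ R : Subgroup G, R.Normal ∧ R ≠ ⊥ ∧
        ((∃ m : ℕ, Nat.card R = p ^ m) ∨ (Nat.card R).Coprime p) := by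
      rcases hL2 with ⟨m, hm⟩ | hc
      · have hch := Lib.Cores.pCore_characteristic (G := N) p
        refine ⟨(pCore p N).map N.subtype, ConjAct.normal_of_characteristic_of_normal, ?_,
          Or.inl ?_⟩
        · rw [Ne, Subgroup.map_eq_bot_iff_of_injective _ N.subtype_injective]
          intro h
          have h1 := Lib.Cores.le_pCore hL (IsPGroup.of_card hm)
          rw [h, le_bot_iff] at h1
          exact hL1.ne' h1
        · exact (IsPGroup.iff_card (p := p)).1 ((Lib.Cores.pCore_isPGroup (G := N) p).map _)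
      · have hch := Lib.Cores.pPrimeCore_characteristic (G := N) p
        refine ⟨(pPrimeCore p N).map N.subtype, ConjAct.normal_of_characteristic_of_normal, ?_,
          Or.inr ?_⟩
        · rw [Ne, Subgroup.map_eq_bot_iff_of_injective _ N.subtype_injective]
          intro h
          have h1 := Lib.Cores.le_pPrimeCore hL hc
          rw [h, le_bot_iff] at h1
          exact hL1.ne' h1
        · rw [Nat.card_congr ((pPrimeCore p N).equivMapOfInjective _ N.subtype_injective).toEquiv.symm]
          exact Lib.Cores.pPrimeCore_coprime (G := N) p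
    have hq : Nat.card (G ⧸ R) ≤ n := by
      have h1 := Subgroup.card_eq_card_quotient_mul_card_subgroup R
      have h2 : 1 < Nat.card R := by
        rw [Subgroup.one_lt_card_iff_ne_bot]; exact hRb
      have h3 : 0 < Nat.card (G ⧸ R) := Nat.card_pos
      nlinarith
    exact Lib.PSolvable.IsPSolvable_of_quotient p R hR2 (ih (G ⧸ R) hq fun h => hG
      (h.of_surjective (QuotientGroup.mk' R) (QuotientGroup.mk'_surjective R)))

section

variable {G : Type u} [Group G] [Finite G] {p : ℕ} [hp : Fact p.Prime]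

/-- The inertia groups of characters of normal `p'`-subgroups have index prime to `p`. -/
theorem inertia_index (N : Subgroup G) [N.Normal] (hNp : ¬ p ∣ Nat.card N) {θ : N → ℂ}
    (hθ : IsIrrCharacter N θ) (h : ¬ IMC p G) : ¬ p ∣ (inertia N θ).index := by
  classical
  have : Fintype G := Fintype.ofFinite G
  have : Fintype N := Fintype.ofFinite _
  have : Fintype (inertia N θ) := Fintype.ofFinite _
  obtain ⟨P⟩ : Nonempty (Sylow p G) := inferInstance
  have hbot : (P : Subgroup G).subgroupOf N = ⊥ := by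
    rw [← Subgroup.card_eq_one]
    have h1 : IsPGroup p ((P : Subgroup G).subgroupOf N) :=
      P.isPGroup'.comap_of_injective N.subtype N.subtype_injective
    obtain ⟨k, hk⟩ := (IsPGroup.iff_card (p := p)).1 h1
    rcases Nat.eq_zero_or_pos k with h0 | h0
    · rw [hk, h0, pow_zero]
    · exfalso
      apply hNp
      refine Dvd.dvd.trans ?_ (Subgroup.card_subgroup_dvd_card ((P : Subgroup G).subgroupOf N))
      rw [hk]
      exact dvd_pow_self p h0.ne'
  have hfix : Fix ((P : Subgroup G).subgroupOf N) θ := by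
    rw [hbot, fix_iff]
    simp only [Finset.univ_unique, Finset.sum_singleton]
    have h1 : ((default : (⊥ : Subgroup N)) : N) = 1 := rfl
    rw [h1]
    exact isIrr_apply_one_ne_zero hθ
  obtain ⟨χ, hχ, hfχ⟩ := exists_over N (P : Subgroup G) hθ hfix
  obtain ⟨ψ, hψ, hψθ, hψχ⟩ := exists_ind hθ (fun g => Iff.rfl)
    (le_inertia (isIrr_isClassFunction hθ)) χ.2 hχ
  have h1 : charDegree (χ : G → ℂ) = (inertia N θ).index * charDegree ψ := by
    apply H670.PSing.charDegree_eq_of
    rw [hψχ, indFun_apply_one, charDegree_eq hψ, Nat.cast_mul]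
  intro hdiv
  apply h
  refine ⟨χ, P, ?_, hfχ⟩
  rw [h1]
  exact Dvd.dvd.mul_right hdiv _

/-- Reduction for a normal `p'`-subgroup. -/
theorem step_coprime (N : Subgroup G) [hN : N.Normal] (hNp : ¬ p ∣ Nat.card N) (h : ¬ IMC p G)
    (hIM : ∀ P : Sylow p (G ⧸ N), (P : Subgroup (G ⧸ N)).Normal)
    (hIM' : ∀ M : Subgroup G, M.Normal → M ≠ ⊤ → ∀ P : Sylow p M, (P : Subgroup M).Normal) (P : Sylow p G) :
    (P : Subgroup G).Normal := by
  classical
  have h1 := hIM (P.mapSurjective (QuotientGroup.mk'_surjective N))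
  rw [Sylow.coe_mapSurjective] at h1
  set M : Subgroup G := ((P : Subgroup G).map (QuotientGroup.mk' N)).comap (QuotientGroup.mk' N)
    with hM
  have hMn : M.Normal := h1.comap _
  have hPM : (P : Subgroup G) ≤ M := Subgroup.le_comap_map _ _
  by_cases htop : M = ⊤
  swap
  · exact H670.PSing.normal_of_subtype P hPM (hIM' M hMn htop (P.subtype hPM))
  -- `G = P N`
  have hPN : (P : Subgroup G) ⊔ N = ⊤ := by
    rw [← htop, hM, Subgroup.comap_map_eq, QuotientGroup.ker_mk']
  have hidx : ∃ k, N.index = p ^ k := by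
    obtain ⟨k, hk⟩ := (IsPGroup.iff_card (p := p)).1 (P.isPGroup'.map (QuotientGroup.mk' N))
    refine ⟨k, ?_⟩
    have h2 : (P : Subgroup G).map (QuotientGroup.mk' N) = ⊤ := by
      rw [← Subgroup.map_comap_eq_self_of_surjective (QuotientGroup.mk'_surjective N)
        ((P : Subgroup G).map (QuotientGroup.mk' N)), ← hM, htop,
        Subgroup.map_top_of_surjective _ (QuotientGroup.mk'_surjective N)]
    rw [← hk, h2, Subgroup.index_eq_card, Subgroup.card_top]
  obtain ⟨k, hk⟩ := hidx
  -- all characters of `N` are invariant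
  have hinv : ∀ θ : N → ℂ, IsIrrCharacter N θ → inertia N θ = ⊤ := by
    intro θ hθ
    have h2 := inertia_index N hNp hθ h
    have h3 : (inertia N θ).index ∣ p ^ k := by
      rw [← hk]
      exact Subgroup.index_dvd_of_le (le_inertia (isIrr_isClassFunction hθ))
    obtain ⟨j, -, hj⟩ := (Nat.dvd_prime_pow hp.out).1 h3
    rcases Nat.eq_zero_or_pos j with h0 | h0
    · rw [h0, pow_zero] at hj
      exact Subgroup.index_eq_one.1 hj
    · exact absurd (hj ▸ dvd_pow_self p h0.ne') h2
  -- conjugation by elements of `G` fixes the classes of `N`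
  have hcl : ∀ (g : G) (n : N), IsConj n ⟨g * n * g⁻¹, hN.conj_mem (n : G) n.2 g⟩ := by
    intro g n
    rw [Characters.GaloisIrr.isConj_iff_forall_irr]
    intro θ hθ
    have h2 : g ∈ inertia N θ := by rw [hinv θ hθ]; trivial
    exact (mem_inertia'.1 h2 n).symm
  -- `N` centralises `P`
  let C : Subgroup N := (Subgroup.centralizer ((P : Subgroup G) : Set G)).subgroupOf N
  have hC : C = ⊤ := by
    by_contra hne
    obtain ⟨n, hn⟩ := LieRecognition.FT61.O3.exists_not_conj C hne
    -- the class of `n`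
    let K : Type u := {m : N // IsConj n m}
    let act : MulAction (P : Subgroup G) K :=
      { smul := fun x m => ⟨⟨(x : G) * (m.1 : G) * (x : G)⁻¹,
          hN.conj_mem (m.1 : G) m.1.2 x⟩, m.2.trans (hcl x m.1)⟩
        one_smul := fun m => by
          apply Subtype.ext
          apply Subtype.ext
          show ((1 : (P : Subgroup G)) : G) * (m.1 : G) * ((1 : (P : Subgroup G)) : G)⁻¹ = m.1
          simp
        mul_smul := fun x y m => by
          apply Subtype.ext
          apply Subtype.ext
          show ((x * y : (P : Subgroup G)) : G) * (m.1 : G) * ((x * y : (P : Subgroup G)) : G)⁻¹ =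
            (x : G) * ((y : G) * (m.1 : G) * (y : G)⁻¹) * (x : G)⁻¹
          rw [Subgroup.coe_mul]; group }
    have hKcard : ¬ p ∣ Nat.card K := by
      intro hdiv
      apply hNp
      refine hdiv.trans ?_
      have h2 : Nat.card K = (MulAction.stabilizer (ConjAct N) n).index := by
        rw [MulAction.index_stabilizer, ← Nat.card_coe_set_eq]
        apply Nat.card_congr
        refine Equiv.subtypeEquivRight fun m => ?_
        rw [ConjAct.mem_orbit_conjAct, isConj_comm]
      rw [h2]
      exact (Subgroup.index_dvd_card _).trans (Nat.card_congr (ConjAct.ofConjAct (G := N)).toEquiv).dvd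
    obtain ⟨m, hm⟩ := (P.isPGroup').nonempty_fixed_point_of_prime_not_dvd_card K hKcard
    obtain ⟨c, hc⟩ := isConj_iff.1 m.2
    apply hn c⁻¹
    rw [inv_inv, hc]
    show (m.1 : G) ∈ Subgroup.centralizer ((P : Subgroup G) : Set G)
    rw [Subgroup.mem_centralizer_iff]
    intro x hx
    have h2 : (⟨x, hx⟩ : (P : Subgroup G)) • m = m := hm ⟨x, hx⟩
    have h3 : x * (m.1 : G) * x⁻¹ = m.1 := congrArg (fun z : K => (z.1 : G)) h2
    calc x * (m.1 : G) = x * (m.1 : G) * x⁻¹ * x := by group
      _ = (m.1 : G) * x := by rw [h3]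
  have hcent : N ≤ Subgroup.centralizer ((P : Subgroup G) : Set G) := by
    intro n hn
    have : (⟨n, hn⟩ : N) ∈ C := by rw [hC]; trivial
    exact this
  rw [← Subgroup.normalizer_eq_top_iff, ← top_le_iff, ← hPN, sup_le_iff]
  refine ⟨Subgroup.le_normalizer, ?_⟩
  exact hcent.trans (Subgroup.centralizer_le_normalizer _)

/-- Reduction for a normal `p`-subgroup. -/
theorem step_pgroup (N : Subgroup G) [N.Normal] (hN : IsPGroup p N)
    (hIM : ∀ P : Sylow p (G ⧸ N), (P : Subgroup (G ⧸ N)).Normal) (P : Sylow p G) : (P : Subgroup G).Normal := by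
  have h1 := hIM (P.mapSurjective (QuotientGroup.mk'_surjective N))
  have h2 : ((P : Subgroup G).map (QuotientGroup.mk' N)).comap (QuotientGroup.mk' N) = P := by
    rw [Subgroup.comap_map_eq, QuotientGroup.ker_mk']
    exact sup_eq_left.2 (hN.le_sylow_of_normal P)
  rw [← h2]
  exact h1.comap _

end

theorem normal_of_pSolvable_aux {p : ℕ} [hp : Fact p.Prime] (n : ℕ) :
    ∀ (G : Type u) [Group G] [Finite G], Nat.card G ≤ n → IsPSolvable p G → ¬ IMC p G →
      ∀ P : Sylow p G, (P : Subgroup G).Normal := by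
  induction n with
  | zero =>
    intro G _ _ hn
    exact absurd hn (by have := Nat.card_pos (α := G); omega)
  | succ n ih =>
    intro G _ _ hn hG h
    rcases subsingleton_or_nontrivial G with hs | hnt
    · intro P
      refine ⟨fun x hx g => ?_⟩
      rwa [Subsingleton.elim (g * x * g⁻¹) x]
    obtain ⟨N, hN, hN1, -, hN2⟩ := Lib.PSolvable.sep_of_pSolvable p hG ⊥ ⊤ inferInstance inferInstance
      bot_lt_top
    rw [Subgroup.relIndex_bot_left] at hN2
    have hNne : N ≠ ⊥ := hN1.ne'
    have hq : Nat.card (G ⧸ N) ≤ n := by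
      have h1 := Subgroup.card_eq_card_quotient_mul_card_subgroup N
      have h2 : 1 < Nat.card N := by
        rw [Subgroup.one_lt_card_iff_ne_bot]; exact hNne
      have h3 : 0 < Nat.card (G ⧸ N) := Nat.card_pos
      nlinarith
    have hIM := ih (G ⧸ N) hq (PLocal.PSolvable.isPSolvable_quotient hG N)
      (fun h' => h (h'.of_surjective (QuotientGroup.mk' N) (QuotientGroup.mk'_surjective N)))
    rcases hN2 with ⟨m, hm⟩ | hc
    · exact step_pgroup N (IsPGroup.of_card hm) hIM
    · refine step_coprime N ?_ h hIM ?_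
      · exact (Nat.Prime.coprime_iff_not_dvd hp.out).1 hc.symm
      · intro M hMn hMt
        refine ih M ?_ (PLocal.PSolvable.isPSolvable_subgroup hG M) (fun h' => h (h'.of_normal M))
        have h1 : Nat.card M < Nat.card G := by
          refine lt_of_le_of_ne (Subgroup.card_le_card_group M) fun h => hMt ?_
          exact Subgroup.eq_top_of_card_eq M h
        omega

/-- If `P` is normal, the constituents of the permutation character have degree prime to `p`. -/
theorem not_dvd_of_normal {p : ℕ} [hp : Fact p.Prime] {G : Type u} [Group G] [Finite G] (P : Sylow p G)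
    (hP : (P : Subgroup G).Normal) (χ : IrrCharacter G) (hχ : Fix (P : Subgroup G) (χ : G → ℂ)) :
    ¬ p ∣ charDegree (χ : G → ℂ) := by
  classical
  have := Fintype.ofFinite (P : Subgroup G)
  obtain ⟨χ', h1⟩ := Blocks.Deflate.exists_deflation (P : Subgroup G) χ χ.2 ((fix_iff _ _).1 hχ)
  have h2 : charDegree (χ : G → ℂ) = charDegree (χ' : G ⧸ (P : Subgroup G) → ℂ) := by
    unfold charDegree
    rw [h1]
    rfl
  rw [h2]
  intro h3
  have h4 := h3.trans (charDegree_dvd χ'.2)
  rw [← Subgroup.index_eq_card] at h4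
  exact P.not_dvd_index h4

theorem fix_of_inner {G : Type u} [Group G] [Fintype G] (P : Subgroup G) (χ : IrrCharacter G) :
    classInner (indFun P (fun _ => (1 : ℂ))) (χ : G → ℂ) ≠ 0 ↔ Fix P (χ : G → ℂ) := by
  classical
  have := Fintype.ofFinite P
  have h0 : (fun _ => (1 : ℂ)) = (1 : P → ℂ) := rfl
  rw [h0, classInner_res_symm P isCharacter_one (isIrr_isCharacter χ.2), fix_iff_inner]

/-- **The theorem of Malle and Navarro**, from the result for simple groups. -/
theorem main {p : ℕ} [hp : Fact p.Prime]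
    (hcore : ∀ (S : Type u) [Group S] [Finite S], IsSimpleGroup S → ¬ IsMulCommutative S → p ∣ Nat.card S → IMC p S)
    {G : Type u} [Group G] [Fintype G] (P : Sylow p G) :
    (P : Subgroup G).Normal ↔ ∀ χ : Cfsg.IrrCharacter G,
      Cfsg.classInner (Cfsg.indFun (P : Subgroup G) (fun _ => (1 : ℂ))) (χ : G → ℂ) ≠ 0 →
        ¬ p ∣ Cfsg.charDegree (χ : G → ℂ) := by
  constructor
  · intro h χ hχ
    exact not_dvd_of_normal P h χ ((fix_of_inner (P : Subgroup G) χ).1 hχ)
  · intro h
    have h1 : ¬ IMC p G := by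
      intro h2
      obtain ⟨χ, h3, h4⟩ := h2.fix P
      exact h χ ((fix_of_inner (P : Subgroup G) χ).2 h4) h3
    exact normal_of_pSolvable_aux _ G le_rfl (isPSolvable_of_core hcore _ G le_rfl h1) h1 P

/-- A character of `p`-defect zero is a multiple of the regular character on the `p`-subgroups. -/
theorem fix_of_vanish {G : Type u} [Group G] [Finite G] (P : Subgroup G) {χ : G → ℂ} (hχ : IsIrrCharacter G χ)
    (h : ∀ z ∈ P, z ≠ 1 → χ z = 0) : Fix P χ := by
  classical
  have := Fintype.ofFinite P
  rw [fix_iff, Finset.sum_eq_single (1 : P)]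
  · exact isIrr_apply_one_ne_zero hχ
  · intro z _ hz
    exact h z z.2 fun h1 => hz (Subtype.ext h1)
  · intro h1
    exact absurd (Finset.mem_univ _) h1

/-- Characters of `p`-defect zero. -/
theorem fix_of_defect_zero {p : ℕ} [hp : Fact p.Prime] {G : Type u} [Group G] [Finite G] (P : Sylow p G)
    {χ : G → ℂ} (hχ : IsIrrCharacter G χ) (h : p ^ (Nat.card G).factorization p ∣ charDegree χ) :
    Fix (P : Subgroup G) χ := by
  apply fix_of_vanish _ hχ
  intro z hz hz1
  obtain ⟨n, ρ, hρ, rfl⟩ := hχ
  have h1 : charDegree ρ.character = Module.finrank ℂ (Fin n → ℂ) := by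
    apply Cfsg.Agent.Blocks.Basic.charDegree_of_eq
    exact Representation.char_one _
  rw [h1] at h
  refine Cfsg.Agent.S0165.result ρ p ((Nat.card G).factorization p) hp.out (Nat.ordProj_dvd _ _)
    (Nat.pow_succ_factorization_not_dvd Nat.card_pos.ne' hp.out) h z ?_
  obtain ⟨k, hk⟩ := (IsPGroup.iff_orderOf.1 P.isPGroup') ⟨z, hz⟩
  rw [Subgroup.orderOf_mk] at hk
  rw [hk]
  apply dvd_pow_self
  rintro rfl
  rw [pow_zero, orderOf_eq_one_iff] at hk
  exact hz1 hk

theorem IMC.of_defect_zero {p : ℕ} [hp : Fact p.Prime] {G : Type u} [Group G] [Finite G] (hG : p ∣ Nat.card G)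
    (χ : IrrCharacter G) (h : p ^ (Nat.card G).factorization p ∣ charDegree (χ : G → ℂ)) : IMC p G := by
  obtain ⟨P⟩ : Nonempty (Sylow p G) := inferInstance
  refine ⟨χ, P, (dvd_pow_self p ?_).trans h, fix_of_defect_zero P χ.2 h⟩
  exact (hp.out.factorization_pos_of_dvd Nat.card_pos.ne' hG).ne'

/-- `Fix P χ` for the character of a representation: there is a nonzero vector fixed by `P`. -/
theorem fix_iff_exists {G : Type u} [Group G] (P : Subgroup G) [Finite P] {n : ℕ}
    (ρ : Representation ℂ G (Fin n → ℂ)) :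
    Fix P ρ.character ↔ ∃ v : Fin n → ℂ, v ≠ 0 ∧ ∀ z ∈ P, ρ z v = v := by
  classical
  have := Fintype.ofFinite P
  have hinv : Invertible (Fintype.card P : ℂ) := invertibleOfNonzero (by
    rw [← Nat.card_eq_fintype_card]; exact card_ne_zero_complex)
  let σ : Representation ℂ P (Fin n → ℂ) := ρ.comp P.subtype
  have h1 : LinearMap.trace ℂ _ σ.averageMap = (Module.finrank ℂ σ.invariants : ℂ) :=
    LinearMap.IsProj.trace σ.isProj_averageMap
  have h2 : σ.averageMap = ⅟(Fintype.card P : ℂ) • ∑ z : P, ρ (z : G) := by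
    unfold Representation.averageMap GroupAlgebra.average
    rw [map_smul, map_sum]
    congr 1
    refine Finset.sum_congr rfl fun z _ => ?_
    rw [Representation.asAlgebraHom_of]
    rfl
  have h3 : ∑ z : P, ρ.character (z : G) = (Fintype.card P : ℂ) * (Module.finrank ℂ σ.invariants : ℂ) := by
    rw [← h1, h2, map_smul, map_sum, smul_eq_mul, ← mul_assoc, mul_invOf_self, one_mul]
    rfl
  rw [fix_iff, h3]
  have hc : (Fintype.card P : ℂ) ≠ 0 := by
    rw [← Nat.card_eq_fintype_card]; exact card_ne_zero_complex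
  rw [mul_ne_zero_iff, and_iff_right hc, Nat.cast_ne_zero, ← Nat.pos_iff_ne_zero, Module.finrank_pos_iff,
    Submodule.nontrivial_iff_ne_bot, Submodule.ne_bot_iff]
  constructor
  · rintro ⟨v, hv, hv0⟩
    exact ⟨v, hv0, fun z hz => hv ⟨z, hz⟩⟩
  · rintro ⟨v, hv0, hv⟩
    exact ⟨v, fun z => hv z z.2, hv0⟩

theorem Fix.mono {G : Type u} [Group G] {P H : Subgroup G} [Finite H] (hP : P ≤ H) {χ : G → ℂ}
    (hχ : IsCharacter G χ) (h : Fix H χ) : Fix P χ := by
  have : Finite P := Finite.of_injective _ (Subgroup.inclusion_injective hP)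
  obtain ⟨n, ρ, rfl⟩ := hχ
  rw [fix_iff_exists] at h ⊢
  obtain ⟨v, hv, hv1⟩ := h
  exact ⟨v, hv, fun z hz => hv1 z (hP hz)⟩

/-- Constituents of the permutation character on the cosets of a subgroup containing a Sylow `p`-subgroup. -/
theorem IMC.of_le {p : ℕ} [hp : Fact p.Prime] {G : Type u} [Group G] [Finite G] (H : Subgroup G)
    (hH : ¬ p ∣ H.index) (χ : IrrCharacter G) (hd : p ∣ charDegree (χ : G → ℂ)) (h : Fix H (χ : G → ℂ)) :
    IMC p G := by
  obtain ⟨Q⟩ : Nonempty (Sylow p H) := inferInstance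
  have h1 : IsPGroup p ((Q : Subgroup H).map H.subtype) := Q.isPGroup'.map _
  have h2 : ¬ p ∣ ((Q : Subgroup H).map H.subtype).index := by
    rw [Subgroup.index_map_subtype]
    exact Nat.Prime.not_dvd_mul hp.out Q.not_dvd_index hH
  exact ⟨χ, h1.toSylow h2, hd, h.mono (Subgroup.map_subtype_le _) (isIrr_isCharacter χ.2)⟩

end Cfsg.Agent.H625.SylConst
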