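import Cfsg.Agent.H625.FongRank
import Cfsg.Agent.H608.BlockRank
import Cfsg.Agent.H634.Cols
import Cfsg.Agent.CharactersDeep.ModCongr
import Cfsg.Agent.Lib.PSolvable
import Cfsg.Agent.Lib.Cores
import Cfsg.Agent.S0908
import Cfsg.Agent.S0911
import Cfsg.Agent.S0914
import Cfsg.Agent.S0931
import Cfsg.Agent.S4435
import Cfsg.Agent.S4436
import Cfsg.Agent.S4492
import Cfsg.Prelude.Def_Transfer
set_option linter.all false

/-!
# Blocks of `p`-solvable groups with `k(B) = l(B) + 1` (helper625)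

* `conj_of_full` : if `B` has a member of degree prime to `p` and `k(B) = l(B) + 1` then all nontrivial `p`-elements
  of `G` are conjugate;
* `elemAb_of_pSolvable` : a `p`-solvable group with one class of nontrivial `p`-elements has elementary abelian
  Sylow `p`-subgroups;
* `main` : a block `B` of a `p`-solvable group with `k(B) = l(B) + 1` has elementary abelian defect groups.
-/

set_option autoImplicit false

open Cfsg
open scoped ComplexConjugate

namespace Cfsg.Agent.H625.PSolvOne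

open Cfsg.Agent.H608.BlockRank Cfsg.Agent.Blocks.Basic Cfsg.Agent.Blocks.Local Module

universe u

section full

variable {G : Type u} [Group G] [Finite G] {p : ℕ} [hp : Fact p.Prime] {M : Ideal AlgInt}

/-- Defect groups of a block are conjugate. -/
theorem defect_conj (hM : IsPModular p M) {B : Set (IrrCharacter G)} (hB : IsPBlock M B) {D D' : Subgroup G}
    (hD : IsDefectGroup p M B D) (hD' : IsDefectGroup p M B D') :
    ∃ c : G, D' = D.map (MulAut.conj c).toMonoidHom := by
  obtain ⟨c, hc⟩ : ∃ c : G, D' ≤ D.map (MulAut.conj c).toMonoidHom := by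
    obtain ⟨y, hy, P, rfl⟩ := hD
    obtain ⟨y', hy', P', rfl⟩ := hD'
    obtain ⟨c, Q, hQ⟩ := (Cfsg.Agent.S0911.result p M hM B hB y hy P y').1 hy'.1 hy'.2.1
    obtain ⟨k, hk, hk'⟩ := Cfsg.Agent.Blocks.SylowIn.exists_conj_of_sylow_map_eq
      (p := p) (K := Subgroup.centralizer ({y'} : Set G)) ⟨Q, rfl⟩ ⟨P', rfl⟩
    refine ⟨k * c, ?_⟩
    rw [← hk', ← Cfsg.Agent.Blocks.Basic.map_conj_map_conj]
    exact Subgroup.map_mono hQ
  refine ⟨c, Subgroup.eq_of_le_of_card_ge hc ?_⟩
  rw [S0908.result p M hM B hB D' hD',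
    Nat.card_congr (D.equivMapOfInjective _ (MulAut.conj c).injective).toEquiv.symm,
    S0908.result p M hM B hB D hD]

/-- If some member of `B` has degree prime to `p` then the section of every `p`-element is nonzero on `B`. -/
theorem one_le_finrank (hM : IsPModular p M) {B : Set (IrrCharacter G)} {χ : IrrCharacter G} (hχ : χ ∈ B)
    (hdeg : ¬ p ∣ charDegree (χ : G → ℂ)) {x : G} (hx : ∃ k : ℕ, orderOf x = p ^ k) :
    1 ≤ finrank ℂ ((charSpan B).map (secMap p x (Subgroup.centralizer ({x} : Set G)))) := by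
  have hMp := isPrime_of_isPModular hM
  have hne : (χ : G → ℂ) x ≠ 0 := by
    intro h0
    have h1 := Cfsg.Agent.CharactersDeep.ModCongr.memLocalIdeal_character_sub hM χ.2 x x
      ⟨1, mul_one x, Commute.one_right x, hx, by
        rw [orderOf_one]; exact hp.out.one_lt.ne' ∘ Nat.dvd_one.1⟩
    rw [h0, inv_mul_cancel, irr_one_eq_charDegree χ.2, zero_sub, memLocalIdeal_neg_iff,
      memLocalIdeal_natCast_iff hM] at h1
    exact hdeg h1
  rw [Nat.one_le_iff_ne_zero, ← Nat.pos_iff_ne_zero, Module.finrank_pos_iff_exists_ne_zero]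
  refine ⟨⟨secMap p x _ (χ : G → ℂ), Submodule.mem_map_of_mem (Submodule.subset_span ⟨χ, hχ, rfl⟩)⟩, ?_⟩
  intro h
  have h1 := congrFun (congrArg Subtype.val h) (1 : Subgroup.centralizer ({x} : Set G))
  have h2 : IsPRegular p (1 : Subgroup.centralizer ({x} : Set G)) := by
    unfold IsPRegular
    rw [orderOf_one]
    exact hp.out.one_lt.ne' ∘ Nat.dvd_one.1
  have h3 := secMap_of h2 (χ : G → ℂ) (x := x)
  apply hne
  have h4 : (χ : G → ℂ) (x * ((1 : Subgroup.centralizer ({x} : Set G)) : G)) = 0 := by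
    rw [← h3]
    exact h1
  simpa using h4

/-- If `k(B) = l(B) + 1` and the sections of all `p`-elements are nonzero on `B` then all nontrivial `p`-elements are
conjugate. -/
theorem conj_of_full (hM : IsPModular p M) {B : Set (IrrCharacter G)} (hB : IsPBlock M B)
    (hk : Nat.card B = blockRank p B + 1) {χ : IrrCharacter G} (hχ : χ ∈ B)
    (hdeg : ¬ p ∣ charDegree (χ : G → ℂ)) {x y : G} (hx : ∃ k : ℕ, orderOf x = p ^ k) (hx1 : x ≠ 1)
    (hy : ∃ k : ℕ, orderOf y = p ^ k) (hy1 : y ≠ 1) : IsConj x y := by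
  classical
  have hMp := isPrime_of_isPModular hM
  by_contra hxy
  have h1 : ∃ k : ℕ, orderOf (1 : G) = p ^ k := ⟨0, by simp⟩
  have hne : x ≠ y := by rintro rfl; exact hxy (IsConj.refl _)
  obtain ⟨X, hSX, hX, hXrep⟩ := H634.Cols.exists_reps (p := p) ({1, x, y} : Finset G)
    (by
      intro z hz
      simp only [Finset.mem_insert, Finset.mem_singleton] at hz
      rcases hz with rfl | rfl | rfl
      · exact h1
      · exact hx
      · exact hy)
    (by
      intro u hu v hv hc
      simp only [Finset.mem_insert, Finset.mem_singleton] at hu hv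
      rcases hu with rfl | rfl | rfl <;> rcases hv with rfl | rfl | rfl
      · rfl
      · exact (hx1 (H634.Cols.one_conj hc)).elim
      · exact (hy1 (H634.Cols.one_conj hc)).elim
      · exact (hx1 (H634.Cols.one_conj hc.symm)).elim
      · rfl
      · exact (hxy hc).elim
      · exact (hy1 (H634.Cols.one_conj hc.symm)).elim
      · exact (hxy hc.symm).elim
      · rfl)
  have h2 := card_eq_sum_finrank hM (isUnion_of_isPBlock hB) X hX hXrep
  have h3 : ∑ z ∈ ({1, x, y} : Finset G),
      finrank ℂ ((charSpan B).map (secMap p z (Subgroup.centralizer ({z} : Set G)))) ≤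
      ∑ z ∈ X, finrank ℂ ((charSpan B).map (secMap p z (Subgroup.centralizer ({z} : Set G)))) :=
    Finset.sum_le_sum_of_subset hSX
  rw [Finset.sum_insert (by simp [Ne.symm hx1, Ne.symm hy1]), Finset.sum_pair hne, ← h2,
    H634.Cols.finrank_secMap_one] at h3
  have h4 := one_le_finrank hM hχ hdeg hx
  have h5 := one_le_finrank hM hχ hdeg hy
  omega

end full

section group

variable {G : Type u} [Group G] [Finite G] {p : ℕ} [hp : Fact p.Prime]

omit [Finite G] in
theorem exists_pow_of_mem (P : Sylow p G) {x : G} (hx : x ∈ P) : ∃ k : ℕ, orderOf x = p ^ k := by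
  obtain ⟨k, hk⟩ := IsPGroup.iff_orderOf.1 P.2 ⟨x, hx⟩
  exact ⟨k, by rw [← hk, ← Subgroup.orderOf_coe]⟩

/-- A `p`-solvable group in which all nontrivial `p`-elements are conjugate has elementary abelian Sylow
`p`-subgroups. -/
theorem elemAb_of_pSolvable (hG : IsPSolvable p G)
    (hconj : ∀ x y : G, (∃ k : ℕ, orderOf x = p ^ k) → x ≠ 1 → (∃ k : ℕ, orderOf y = p ^ k) → y ≠ 1 →
      IsConj x y) (P : Sylow p G) : IsElementaryAbelian p (P : Subgroup G) := by
  classical
  by_cases hPcard : p ∣ Nat.card G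
  swap
  · have hP1 : (P : Subgroup G) = ⊥ := by
      rw [← Subgroup.card_eq_one, P.card_eq_multiplicity, Nat.factorization_eq_zero_of_not_dvd hPcard,
        pow_zero]
    constructor
    · rw [hP1]; infer_instance
    · intro a ha
      rw [hP1, Subgroup.mem_bot] at ha
      rw [ha, one_pow]
  set N := pPrimeCore p G with hNdef
  have hN : N.Normal := Lib.Cores.pPrimeCore_normal p
  have hNc : (Nat.card N).Coprime p := Lib.Cores.pPrimeCore_coprime p
  have hNtop : N < ⊤ := by
    rw [lt_top_iff_ne_top]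
    intro h
    rw [h, Subgroup.card_top] at hNc
    exact (Nat.Prime.coprime_iff_not_dvd hp.out).1 hNc.symm hPcard
  obtain ⟨L, hL, hNL, -, hidx⟩ := Lib.PSolvable.sep_of_pSolvable p hG N ⊤ hN inferInstance hNtop
  have hmul : Nat.card N * N.relIndex L = Nat.card L := by
    have := Subgroup.relIndex_mul_relIndex ⊥ N L bot_le hNL.le
    rwa [Subgroup.relIndex_bot_left, Subgroup.relIndex_bot_left] at this
  have hnc : ¬ (Nat.card L).Coprime p := fun h =>
    (lt_of_lt_of_le hNL (Lib.Cores.le_pPrimeCore hL h)).ne rfl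
  obtain ⟨m, hm⟩ : ∃ m : ℕ, N.relIndex L = p ^ m := by
    rcases hidx with h | h
    · exact h
    · exfalso
      apply hnc
      rw [← hmul]
      exact Nat.Coprime.mul_left hNc h
  have hpL : p ∣ Nat.card L := by
    by_contra h
    exact hnc ((Nat.Prime.coprime_iff_not_dvd hp.out).2 h).symm
  obtain ⟨x₀, hx₀⟩ := exists_prime_orderOf_dvd_card' (G := L) p hpL
  have hx₀' : orderOf (x₀ : G) = p := by rw [Subgroup.orderOf_coe, hx₀]
  have hx₀1 : (x₀ : G) ≠ 1 := by
    intro h
    rw [h, orderOf_one] at hx₀'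
    exact hp.out.one_lt.ne hx₀'
  have hall : ∀ y : G, (∃ k : ℕ, orderOf y = p ^ k) → y ∈ L := by
    intro y hy
    by_cases hy1 : y = 1
    · rw [hy1]; exact L.one_mem
    · obtain ⟨g, hg⟩ := isConj_iff.1 (hconj x₀ y ⟨1, by rw [hx₀', pow_one]⟩ hx₀1 hy hy1)
      rw [← hg]
      exact hL.conj_mem _ x₀.2 g
  have hPL : (P : Subgroup G) ≤ L := fun y hy => hall y (exists_pow_of_mem P hy)
  let π := QuotientGroup.mk' N
  have hπ : Function.Surjective π := QuotientGroup.mk'_surjective N
  have hLp : IsPGroup p (L.map π) := by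
    rintro ⟨-, l, hl, rfl⟩
    refine ⟨m, Subtype.ext ?_⟩
    have h1 := Subgroup.pow_index_mem (N.subgroupOf L) (⟨l, hl⟩ : L)
    have h2 : (N.subgroupOf L).index = p ^ m := hm
    rw [h2, Subgroup.mem_subgroupOf] at h1
    change π l ^ p ^ m = 1
    rw [← map_pow]
    exact (QuotientGroup.eq_one_iff _).2 h1
  have hmap : L.map π = (P : Subgroup G).map π :=
    (P.mapSurjective hπ).is_maximal' hLp (Subgroup.map_mono hPL)
  have hLn : (L.map π).Normal := hL.map π hπ
  have hinf : ∀ c : G, c ∈ P → c ∈ N → c = 1 := by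
    intro c hcP hcN
    obtain ⟨k, hk⟩ := exists_pow_of_mem P hcP
    have h1 : orderOf c ∣ Nat.card N := by
      have := orderOf_dvd_natCard (⟨c, hcN⟩ : N)
      rwa [← Subgroup.orderOf_coe] at this
    have h2 : Nat.Coprime (p ^ k) (Nat.card N) := Nat.Coprime.pow_left k hNc.symm
    rw [hk] at h1
    have h3 := Nat.Coprime.eq_one_of_dvd h2 h1
    rw [← hk] at h3
    exact orderOf_eq_one_iff.1 h3
  have hPnt : Nontrivial (P : Subgroup G) := by
    rw [← Finite.one_lt_card_iff_nontrivial, P.card_eq_multiplicity]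
    have : 0 < (Nat.card G).factorization p := hp.out.factorization_pos_of_dvd Nat.card_pos.ne' hPcard
    exact Nat.one_lt_pow this.ne' hp.out.one_lt
  have hPfin : Finite (P : Subgroup G) := inferInstance
  have hcn := IsPGroup.center_nontrivial P.2
  obtain ⟨z, hz1⟩ := exists_ne (1 : Subgroup.center (P : Subgroup G))
  have hzc : ∀ w ∈ P, w * (z : G) = (z : G) * w := by
    intro w hw
    have := Subgroup.mem_center_iff.1 z.2 ⟨w, hw⟩
    exact congrArg (Subtype.val) this
  have hz1' : ((z : (P : Subgroup G)) : G) ≠ 1 := by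
    intro h
    apply hz1
    exact Subtype.ext (Subtype.ext h)
  have hzP : ((z : (P : Subgroup G)) : G) ∈ P := (z : (P : Subgroup G)).2
  have hcomm : ∀ x ∈ P, ∀ y ∈ P, x * y = y * x := by
    intro x hx y hy
    by_cases hx1 : x = 1
    · rw [hx1, one_mul, mul_one]
    obtain ⟨g, hg⟩ := isConj_iff.1 (hconj (z : (P : Subgroup G)) x (exists_pow_of_mem P hzP) hz1'
      (exists_pow_of_mem P hx) hx1)
    have h1 : π (g⁻¹ * y * g) ∈ (P : Subgroup G).map π := by
      rw [← hmap, map_mul, map_mul, map_inv]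
      have := hLn.conj_mem (π y) (Subgroup.mem_map_of_mem π (hPL hy)) (π g)⁻¹
      rwa [inv_inv] at this
    obtain ⟨w, hw, hwe⟩ := h1
    have h2 : π w * π (z : (P : Subgroup G)) = π (z : (P : Subgroup G)) * π w := by
      rw [← map_mul, hzc w hw, map_mul]
    have hyw : π y = π g * π w * (π g)⁻¹ := by
      rw [hwe, map_mul, map_mul, map_inv]
      group
    have h3 : π x * π y = π y * π x := by
      rw [← hg, map_mul, map_mul, map_inv, hyw]
      calc π g * π (z : (P : Subgroup G)) * (π g)⁻¹ * (π g * π w * (π g)⁻¹)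
          = π g * (π (z : (P : Subgroup G)) * π w) * (π g)⁻¹ := by group
        _ = π g * (π w * π (z : (P : Subgroup G))) * (π g)⁻¹ := by rw [h2]
        _ = _ := by group
    have h4 : x * y * (y * x)⁻¹ ∈ N := by
      rw [← QuotientGroup.eq_one_iff]
      change π (x * y * (y * x)⁻¹) = 1
      rw [map_mul, map_inv, map_mul, map_mul, h3, mul_inv_cancel]
    have h5 := hinf _ (P.mul_mem (P.mul_mem hx hy) (P.inv_mem (P.mul_mem hy hx))) h4
    exact mul_inv_eq_one.1 h5
  obtain ⟨x₁, hx₁⟩ := exists_prime_orderOf_dvd_card' (G := G) p hPcard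
  have hx₁1 : x₁ ≠ 1 := by
    intro h
    rw [h, orderOf_one] at hx₁
    exact hp.out.one_lt.ne hx₁
  refine ⟨⟨⟨fun a b => Subtype.ext (hcomm a a.2 b b.2)⟩⟩, fun a ha => ?_⟩
  by_cases ha1 : a = 1
  · rw [ha1, one_pow]
  obtain ⟨g, hg⟩ := isConj_iff.1 (hconj x₁ a ⟨1, by rw [hx₁, pow_one]⟩ hx₁1 (exists_pow_of_mem P ha) ha1)
  rw [← hg, conj_pow, ← hx₁, pow_orderOf_eq_one, mul_one, mul_inv_cancel]

end group

section main

theorem elemAb_map {G : Type*} {H : Type*} [Group G] [Group H] {p : ℕ} {D : Subgroup G}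
    (h : IsElementaryAbelian p D) (f : G →* H) : IsElementaryAbelian p (D.map f) := by
  constructor
  · refine ⟨⟨?_⟩⟩
    rintro ⟨-, a, ha, rfl⟩ ⟨-, b, hb, rfl⟩
    have h1 := h.1.is_comm.comm ⟨a, ha⟩ ⟨b, hb⟩
    have h2 : a * b = b * a := congrArg Subtype.val h1
    apply Subtype.ext
    change f a * f b = f b * f a
    rw [← map_mul, h2, map_mul]
  · rintro - ⟨a, ha, rfl⟩
    rw [← map_pow, h.2 a ha, map_one]

/-- A block whose defect groups are Sylow subgroups has a member of degree prime to `p`. -/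
theorem exists_not_dvd {G : Type u} [Group G] [Finite G] {p : ℕ} [hp : Fact p.Prime] {M : Ideal AlgInt}
    (hM : IsPModular p M) {B : Set (IrrCharacter G)} (hB : IsPBlock M B) {P : Sylow p G}
    (hP : IsDefectGroup p M B (P : Subgroup G)) : ∃ χ ∈ B, ¬ p ∣ charDegree ((χ : IrrCharacter G) : G → ℂ) := by
  have hMp := isPrime_of_isPModular hM
  have h1 := S0908.result p M hM B hB _ hP
  rw [P.card_eq_multiplicity] at h1
  have h2 : (Nat.card G).factorization p = blockDefect p B := Nat.pow_right_injective hp.out.two_le h1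
  obtain ⟨χ₀, hχ₀⟩ := isPBlock_nonempty hB
  have hne : ((fun χ : IrrCharacter G => (charDegree (χ : G → ℂ)).factorization p) '' B).Nonempty :=
    ⟨_, χ₀, hχ₀, rfl⟩
  obtain ⟨χ, hχ, hχe⟩ := Nat.sInf_mem hne
  have hdvd : charDegree (χ : G → ℂ) ∣ Nat.card G :=
    S4492.degree_dvd_card χ.2 (irr_one_eq_charDegree χ.2)
  have h3 : (charDegree (χ : G → ℂ)).factorization p ≤ (Nat.card G).factorization p :=
    (Nat.factorization_le_iff_dvd (H613.RegGram.charDegree_ne_zero χ) Nat.card_pos.ne').2 hdvd p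
  refine ⟨χ, hχ, fun hd => ?_⟩
  have h4 : 0 < (charDegree (χ : G → ℂ)).factorization p :=
    hp.out.factorization_pos_of_dvd (H613.RegGram.charDegree_ne_zero χ) hd
  unfold blockDefect at h2
  rw [← hχe] at h2
  simp only at h2
  omega

/-- **`k(B) = l(B) + 1` in `p`-solvable groups.** -/
theorem main_aux (p : ℕ) [hp : Fact p.Prime] (M : Ideal AlgInt) (hM : IsPModular p M) (n : ℕ) :
    ∀ (G : Type u) [Group G] [Finite G] (B : Set (IrrCharacter G)) (D : Subgroup G), Nat.card G = n →
      IsPSolvable p G → IsPBlock M B → Nat.card B = blockRank p B + 1 → IsDefectGroup p M B D →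
      IsElementaryAbelian p D := by
  induction n using Nat.strong_induction_on with
  | _ n ih =>
  intro G _ _ B D hcard hG hB hk hD
  classical
  have hMp := isPrime_of_isPModular hM
  have := Fintype.ofFinite G
  set N := pPrimeCore p G with hNdef
  have hN : N.Normal := Lib.Cores.pPrimeCore_normal p
  have hNc : (Nat.card N).Coprime p := Lib.Cores.pPrimeCore_coprime p
  have := Fintype.ofFinite N
  obtain ⟨χ, hχ⟩ := isPBlock_nonempty hB
  obtain ⟨θ, hθ⟩ := Blocks.Fong.exists_constituent N χ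
  have hbθ : IsPBlock M ({θ} : Set (IrrCharacter N)) := by
    refine ⟨θ, ((S0914.result p M hM θ).1 ?_).symm⟩
    intro hd
    have h1 : Nat.card N / charDegree (θ : N → ℂ) ∣ Nat.card N :=
      Nat.div_dvd_of_dvd (S4492.degree_dvd_card θ.2 (irr_one_eq_charDegree θ.2))
    exact (Nat.Prime.coprime_iff_not_dvd hp.out).1 hNc.symm (hd.trans h1)
  set T := OddOrderCharacters.PF9.CliffGen.inertia N (θ : N → ℂ) with hTdef
  have hst : H591.Reynolds.IsStab ({θ} : Set (IrrCharacter N)) T := by
    intro g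
    rw [hTdef, OddOrderCharacters.PF9.CliffGen.mem_inertia']
    constructor
    · intro h θ₁ hθ₁ θ' hθ'
      rw [Set.mem_singleton_iff] at hθ₁ ⊢
      subst hθ₁
      exact Subtype.ext (funext fun n => (hθ' n).trans (h n))
    · intro h n
      have hirr : IsIrrCharacter N (OddOrderCharacters.NormalInduced.conjFn N (θ : N → ℂ) g) :=
        OddOrderCharacters.IndRes.isIrr_conjFn N θ.2 g
      have h1 := h θ rfl ⟨_, hirr⟩ (fun n => rfl)
      rw [Set.mem_singleton_iff] at h1
      exact congrFun (congrArg Subtype.val h1) n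
  have hNT : N ≤ T := hst.le hbθ
  have := Fintype.ofFinite T
  by_cases hT : T = ⊤
  · -- `θ` is invariant
    have hinv : ∀ (g : G) (n : N), (θ : N → ℂ) ⟨g * n * g⁻¹, hN.conj_mem n n.2 g⟩ = (θ : N → ℂ) n := by
      intro g
      have hg : g ∈ T := by rw [hT]; exact Subgroup.mem_top g
      exact OddOrderCharacters.PF9.CliffGen.mem_inertia'.1 hg
    obtain ⟨B₁, hB₁, hmem, hsyl, hDs⟩ := S4492.result p M hM hG N hNdef θ hinv
    have hχ₁ : χ ∈ B₁ := (hmem χ).2 hθ
    obtain rfl : B = B₁ := isPBlock_eq_of_mem hB hB₁ hχ hχ₁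
    obtain ⟨P, rfl⟩ := hDs D hD
    obtain ⟨χ', hχ', hdeg⟩ := exists_not_dvd hM hB hD
    exact elemAb_of_pSolvable hG (fun x y hx hx1 hy hy1 => conj_of_full hM hB hk hχ' hdeg hx hx1 hy hy1) P
  · have hTlt : Nat.card T < n := by
      rw [← hcard]
      exact lt_of_le_of_ne (Nat.le_of_dvd Nat.card_pos T.card_subgroup_dvd_card) fun h =>
        hT (Subgroup.eq_top_of_card_eq T h)
    obtain ⟨B', hB', ⟨ψ₀, hψ₀, θ₀, hθ₀, h₀⟩, hi⟩ := (S4435.result p M hM N {θ} hbθ T hst hNT).2.2 B hB
      ⟨χ, hχ, θ, rfl, hθ⟩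
    have hTs : IsPSolvable p T := Lib.PSolvable.IsPSolvable_of_injective p hG T.subtype T.subtype_injective
    have hk' : Nat.card B' = blockRank p B' + 1 := by
      rw [← FongRank.card_eq p hM hbθ hst hNT hB' hψ₀ hθ₀ h₀ hi,
        ← FongRank.rank_eq p hM hbθ hst hNT hB' hψ₀ hθ₀ h₀ hi, hk]
    obtain ⟨D', hD', -⟩ := S0931.exists_defectGroup p M hM B' hB'
    have h1 := ih _ hTlt T B' D' rfl hTs hB' hk' hD'
    have h2 := (S4436.result p M hM N {θ} hbθ T hst hNT B' hB' ⟨ψ₀, hψ₀, θ₀, hθ₀, h₀⟩ B hi).1 D' hD'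
    obtain ⟨c, rfl⟩ := defect_conj hM hB h2 hD
    exact elemAb_map (elemAb_map h1 _) _

/-- A block `B` of a `p`-solvable group with `k(B) = l(B) + 1` has elementary abelian defect groups. -/
theorem main {G : Type u} [Group G] [Finite G] (p : ℕ) [hp : Fact p.Prime] (M : Ideal AlgInt)
    (hM : IsPModular p M) (hG : IsPSolvable p G) {B : Set (IrrCharacter G)} (hB : IsPBlock M B)
    (hk : Nat.card B = blockRank p B + 1) {D : Subgroup G} (hD : IsDefectGroup p M B D) :
    IsElementaryAbelian p D :=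
  main_aux p M hM _ G B D rfl hG hB hk hD

end main

end Cfsg.Agent.H625.PSolvOne
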